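import Groth.Agent.Etcore.IntBC
import Groth.Agent.Sga4B.UnitInj

/-!
# Calculus of pulled back sections: composition of inverse images, change of equal morphisms

`SecPull.sq g G q hq : G(V) ⟶ (g⁻¹ G)(W)` is the pullback of sections along a commutative square.
Here: the unit section `usec` is an `sq`; compatibility with `EtCore.pullCongr`, and with the
comparison isomorphism `al : g'⁻¹ f⁻¹ F ≅ f'⁻¹ g⁻¹ F` of a commutative square.
-/

set_option autoImplicit false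
open CategoryTheory CategoryTheory.Limits AlgebraicGeometry Opposite
universe u

namespace Groth.Agent.Etdl.H296.SqCalc

open Groth.Agent.Etcore Groth.Agent.Etcore.SecPull Groth.Agent.Etcore.IntBC Groth.Agent.Sga4B

theorem app_of_comp {A B C : AddCommGrpCat.{u}} (f : A ⟶ B) (g : B ⟶ C) (h : A ⟶ C) (e : f ≫ g = h)
    (x : A) : g (f x) = h x := by
  subst e
  rfl

theorem app_of_comp₂ {A B C D : AddCommGrpCat.{u}} (f : A ⟶ B) (g : B ⟶ C) (h : A ⟶ D) (k : D ⟶ C)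
    (e : f ≫ g = h ≫ k) (x : A) : g (f x) = k (h x) :=
  ConcreteCategory.congr_hom e x

theorem sq_congr {T S : Scheme.{u}} (g : T ⟶ S) (G : EtCoh.Ab S) {V : S.Etale} {W : T.Etale}
    {q q' : W.left ⟶ V.left} (e : q = q') (hq : q ≫ V.hom = W.hom ≫ g)
    (hq' : q' ≫ V.hom = W.hom ≫ g) : SecPull.sq g G q hq = SecPull.sq g G q' hq' := by
  subst e
  rfl

theorem pr_hom {X S : Scheme.{u}} (f : X ⟶ S) (V : S.Etale) :
    UnitInj.pr f V ≫ V.hom = ((EtCoh.bc f).obj V).hom ≫ f := (UnitInj.isPullback_pr f V).w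

/-- the unit section is a pulled back section -/
theorem usec_eq_sq {X S : Scheme.{u}} (f : X ⟶ S) (F : EtCoh.Ab S) (V : S.Etale)
    (m : EtCoh.sect F V) :
    EtUnit.usec f F V m = SecPull.sq f F (V := V) (W := (EtCoh.bc f).obj V) (UnitInj.pr f V) (pr_hom f V) m := by
  have h1 : liftBC f (V := V) (W := (EtCoh.bc f).obj V) (UnitInj.pr f V) (pr_hom f V) = 𝟙 _ := by
    apply ext_toFst
    rw [toFst_liftBC]
    exact (Category.id_comp _).symm
  rw [SecPull.sq, h1, secPull_id]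
  rfl

/-- restriction of the unit section -/
theorem map_usec_eq_sq {X S : Scheme.{u}} (f : X ⟶ S) (F : EtCoh.Ab S) (V : S.Etale)
    (m : EtCoh.sect F V) {U : X.Etale} (h : U ⟶ (EtCoh.bc f).obj V)
    (hq : (h.left ≫ UnitInj.pr f V) ≫ V.hom = U.hom ≫ f) :
    ((EtCoh.pull f).obj F).obj.map h.op (EtUnit.usec f F V m) =
      SecPull.sq f F (V := V) (W := U) (h.left ≫ UnitInj.pr f V) hq m := by
  rw [usec_eq_sq]
  exact ConcreteCategory.congr_hom (sq_precomp f F (UnitInj.pr f V) (pr_hom f V) h hq) m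

theorem pullCongr_sq {T S : Scheme.{u}} {g g' : T ⟶ S} (e : g = g') (G : EtCoh.Ab S)
    {V : S.Etale} {W : T.Etale} (q : W.left ⟶ V.left) (hq : q ≫ V.hom = W.hom ≫ g)
    (hq' : q ≫ V.hom = W.hom ≫ g') :
    SecPull.sq g G q hq ≫ ((EtCore.pullCongr e).hom.app G).hom.app (op W) = SecPull.sq g' G q hq' := by
  subst e
  have : (EtCore.pullCongr (rfl : g = g)).hom.app G = 𝟙 _ := rfl
  rw [this]
  exact Category.comp_id _


variable {X Y X' Y' : Scheme.{u}} {f : X ⟶ Y} {g : Y' ⟶ Y} {f' : X' ⟶ Y'} {g' : X' ⟶ X}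
  (w : g' ≫ f = f' ≫ g)

/-- the comparison `g'⁻¹ f⁻¹ ≅ f'⁻¹ g⁻¹` -/
noncomputable def al : EtCoh.pull f ⋙ EtCoh.pull g' ≅ EtCoh.pull g ⋙ EtCoh.pull f' :=
  (EtCore.pullComp g' f).symm ≪≫ EtCore.pullCongr w ≪≫ EtCore.pullComp f' g

theorem pullComp_al : EtCore.pullComp g' f ≪≫ al w =
    EtCore.pullCongr w ≪≫ EtCore.pullComp f' g := by
  rw [al, Iso.self_symm_id_assoc]

theorem pullComp_al_hom : (EtCore.pullComp g' f).hom ≫ (al w).hom =
    (EtCore.pullCongr w).hom ≫ (EtCore.pullComp f' g).hom :=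
  congrArg Iso.hom (pullComp_al w)

theorem pullComp_al_app (F : EtCoh.Ab Y) : (EtCore.pullComp g' f).hom.app F ≫ (al w).hom.app F =
    (EtCore.pullCongr w).hom.app F ≫ (EtCore.pullComp f' g).hom.app F :=
  congrArg (fun k ↦ k.app F) (pullComp_al_hom w)

theorem pullComp_al_app_app (F : EtCoh.Ab Y) (W' : X'.Etale) :
    ((EtCore.pullComp g' f).hom.app F).hom.app (op W') ≫ ((al w).hom.app F).hom.app (op W') =
      ((EtCore.pullCongr w).hom.app F).hom.app (op W') ≫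
        ((EtCore.pullComp f' g).hom.app F).hom.app (op W') :=
  congrArg (fun k ↦ k.hom.app (op W')) (pullComp_al_app w F)



/-- restriction of a pulled back section -/
theorem map_sq {T S : Scheme.{u}} (g : T ⟶ S) (G : EtCoh.Ab S) {V : S.Etale} {W W' : T.Etale}
    (q : W.left ⟶ V.left) (hq : q ≫ V.hom = W.hom ≫ g) (r : W' ⟶ W)
    (hr : (r.left ≫ q) ≫ V.hom = W'.hom ≫ g) (x : EtCoh.sect G V) :
    ((EtCoh.pull g).obj G).obj.map r.op (SecPull.sq g G q hq x) = SecPull.sq g G (r.left ≫ q) hr x :=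
  app_of_comp _ _ _ (sq_precomp g G q hq r hr) x

/-- pullback of a restricted section -/
theorem sq_map {T S : Scheme.{u}} (g : T ⟶ S) (G : EtCoh.Ab S) {V V' : S.Etale} {W : T.Etale}
    (q : W.left ⟶ V.left) (hq : q ≫ V.hom = W.hom ≫ g) (r : V ⟶ V')
    (hr : (q ≫ r.left) ≫ V'.hom = W.hom ≫ g) (x : EtCoh.sect G V') :
    SecPull.sq g G q hq (G.obj.map r.op x) = SecPull.sq g G (q ≫ r.left) hr x :=
  app_of_comp _ _ _ (sq_postcomp g G q hq r hr) x

/-- naturality in the sheaf -/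
theorem sq_nat {T S : Scheme.{u}} (g : T ⟶ S) {G G' : EtCoh.Ab S} (φ : G ⟶ G') {V : S.Etale}
    {W : T.Etale} (q : W.left ⟶ V.left) (hq : q ≫ V.hom = W.hom ≫ g) (x : EtCoh.sect G V) :
    SecPull.sq g G' q hq (φ.hom.app (op V) x) =
      ((EtCoh.pull g).map φ).hom.app (op W) (SecPull.sq g G q hq x) :=
  app_of_comp₂ _ _ _ _ (sq_naturality g φ q hq) x

/-- pulling back twice -/
theorem sq_sq (F : EtCoh.Ab Y) {V : Y.Etale} {W : X.Etale} {W' : X'.Etale}
    (q : W.left ⟶ V.left) (hq : q ≫ V.hom = W.hom ≫ f)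
    (q' : W'.left ⟶ W.left) (hq' : q' ≫ W.hom = W'.hom ≫ g')
    (e1 : (q' ≫ q) ≫ V.hom = W'.hom ≫ g' ≫ f) (x : EtCoh.sect F V) :
    (SecPull.sq g' ((EtCoh.pull f).obj F) q' hq' (SecPull.sq f F q hq x)) =
    ((EtCore.pullComp g' f).hom.app F).hom.app (op W') (SecPull.sq (g' ≫ f) F (q' ≫ q) e1 x) :=
  app_of_comp₂ _ _ _ _ (sq_comp g' f F q hq q' hq' e1) x

theorem al_apply (F : EtCoh.Ab Y) {W' : X'.Etale} (y : EtCoh.sect ((EtCoh.pull (g' ≫ f)).obj F) W') :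
    ((al w).hom.app F).hom.app (op W') (((EtCore.pullComp g' f).hom.app F).hom.app (op W') y) =
    ((EtCore.pullComp f' g).hom.app F).hom.app (op W')
      (((EtCore.pullCongr w).hom.app F).hom.app (op W') y) :=
  app_of_comp₂ _ _ _ _ (pullComp_al_app_app w F W') y

theorem pullCongr_apply (F : EtCoh.Ab Y) {V : Y.Etale} {W' : X'.Etale} (p : W'.left ⟶ V.left)
    (e1 : p ≫ V.hom = W'.hom ≫ g' ≫ f) (e2 : p ≫ V.hom = W'.hom ≫ f' ≫ g) (x : EtCoh.sect F V) :
    ((EtCore.pullCongr w).hom.app F).hom.app (op W') (SecPull.sq (g' ≫ f) F p e1 x) =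
    SecPull.sq (f' ≫ g) F p e2 x :=
  app_of_comp _ _ _ (pullCongr_sq w F p e1 e2) x

/-- the comparison isomorphism on sections pulled back along two sides of a square -/
theorem al_sq (F : EtCoh.Ab Y) {V : Y.Etale} {W : X.Etale} {W₁ : Y'.Etale} {W' : X'.Etale}
    (q : W.left ⟶ V.left) (hq : q ≫ V.hom = W.hom ≫ f)
    (q' : W'.left ⟶ W.left) (hq' : q' ≫ W.hom = W'.hom ≫ g')
    (r : W₁.left ⟶ V.left) (hr : r ≫ V.hom = W₁.hom ≫ g)
    (r' : W'.left ⟶ W₁.left) (hr' : r' ≫ W₁.hom = W'.hom ≫ f')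
    (e : q' ≫ q = r' ≫ r) (x : EtCoh.sect F V) :
    ((al w).hom.app F).hom.app (op W')
      (SecPull.sq g' ((EtCoh.pull f).obj F) q' hq' (SecPull.sq f F q hq x)) =
      SecPull.sq f' ((EtCoh.pull g).obj F) r' hr' (SecPull.sq g F r hr x) := by
  have e1 : (q' ≫ q) ≫ V.hom = W'.hom ≫ g' ≫ f := by
    rw [Category.assoc, hq, ← Category.assoc, hq', Category.assoc]
  have e2 : (r' ≫ r) ≫ V.hom = W'.hom ≫ f' ≫ g := by
    rw [Category.assoc, hr, ← Category.assoc, hr', Category.assoc]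
  have e3 : (q' ≫ q) ≫ V.hom = W'.hom ≫ f' ≫ g := by rw [e, e2]
  rw [sq_sq F q hq q' hq' e1, al_apply, pullCongr_apply w F _ e1 e3, sq_sq F r hr r' hr' e2,
    sq_congr (f' ≫ g) F e e3 e2]

end Groth.Agent.Etdl.H296.SqCalc
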