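import Groth.Agent.Etdl.H296.TraceSum

/-!
# The trace of a composite of finite locally free morphisms: sheaf part
-/

set_option autoImplicit false
universe u
set_option linter.unusedSectionVars false

open CategoryTheory CategoryTheory.Limits AlgebraicGeometry Opposite

namespace Groth.Agent.Etdl.H296.TraceComp

open Groth.Agent.Sga4B.EtUnit Groth.Agent.Sga4B.TraceRel
open Groth.Agent.Sga4B.UnitInj Groth.Agent.Sga4B.ClopenRank Groth.Agent.Etdl.H445.TraceCalc
open Groth.Agent.Etdl.H445.TraceVar2 TraceSum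

variable {X Y S : Scheme.{u}} (h : X ⟶ Y) (g : Y ⟶ S)

/-- the section of `h⁻¹ g⁻¹ F` over `X ×_Y (Y ×_S V)` given by a section of `(h ≫ g)⁻¹ F` -/
noncomputable def tcomp (F : EtCoh.Ab S) (V : S.Etale)
    (t : EtCoh.sect ((EtCoh.pull (h ≫ g)).obj F) ((EtCoh.bc (h ≫ g)).obj V)) :
    EtCoh.sect ((EtCoh.pull h).obj ((EtCoh.pull g).obj F)) ((EtCoh.bc h).obj ((EtCoh.bc g).obj V)) :=
  ((EtCoh.pull h).obj ((EtCoh.pull g).obj F)).obj.map (cmp h g V).inv.op
    ((pc h g F).hom.app (op ((EtCoh.bc (h ≫ g)).obj V)) t)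

theorem tcomp_usec (F : EtCoh.Ab S) (V : S.Etale) (m : EtCoh.sect F V) :
    tcomp h g F V (usec (h ≫ g) F V m) =
      usec h ((EtCoh.pull g).obj F) ((EtCoh.bc g).obj V) (usec g F V m) := by
  rw [tcomp, pc_usec, map_map_apply, Iso.inv_hom_id, map_id_apply]

theorem cmp_natural {V V' : S.Etale} (k : V' ⟶ V) :
    (EtCoh.bc h).map ((EtCoh.bc g).map k) ≫ (cmp h g V).inv =
      (cmp h g V').inv ≫ (EtCoh.bc (h ≫ g)).map k :=
  (MorphismProperty.Over.pullbackComp (P := EtCoh.etaleMP) (Q := ⊤) h g).inv.naturality k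

theorem map_tcomp (F : EtCoh.Ab S) {V V' : S.Etale} (k : V' ⟶ V)
    (t : EtCoh.sect ((EtCoh.pull (h ≫ g)).obj F) ((EtCoh.bc (h ≫ g)).obj V)) :
    ((EtCoh.pull h).obj ((EtCoh.pull g).obj F)).obj.map
      ((EtCoh.bc h).map ((EtCoh.bc g).map k)).op (tcomp h g F V t) =
      tcomp h g F V' (((EtCoh.pull (h ≫ g)).obj F).obj.map ((EtCoh.bc (h ≫ g)).map k).op t) := by
  rw [tcomp, tcomp, map_map_apply, cmp_natural, ← map_map_apply, nat_map]

/-- the identification `X ×_Y (Y ×_S V) ⟶ X ×_S V` -/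
noncomputable def qc (V : S.Etale) :
    ((EtCoh.bc h).obj ((EtCoh.bc g).obj V)).left ⟶ ((EtCoh.bc (h ≫ g)).obj V).left :=
  (cmp h g V).inv.left

theorem split_comp {F : EtCoh.Ab S} {V : S.Etale}
    {t : EtCoh.sect ((EtCoh.pull (h ≫ g)).obj F) ((EtCoh.bc (h ≫ g)).obj V)}
    {ι : Type u} {c : ((EtCoh.bc (h ≫ g)).obj V).left → ι}
    {m : ι → EtCoh.sect F V} (hs : Split (h ≫ g) F V t c m) :
    Split h ((EtCoh.pull g).obj F) ((EtCoh.bc g).obj V) (tcomp h g F V t)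
      (fun y => c (qc h g V y)) (fun i => usec g F V (m i)) := by
  intro i U k hk
  have h1 := hs i U (k ≫ (cmp h g V).inv) (fun u => hk u)
  rw [← tcomp_usec h g F V (m i), tcomp, tcomp, map_map_apply, map_map_apply, ← nat_map, ← nat_map,
    h1]

end Groth.Agent.Etdl.H296.TraceComp
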