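import Groth.Agent.Etdl.H445.TraceVar2

/-!
# The trace of a split section where the ranks are constant

`tr_of_split`: if the section `t` of `f⁻¹ F` over `X ×_S V` is the unit section of `m i` on the piece
of colour `i`, and the ranks of the pieces are constant `= r i` on `V₁ ⟶ V`, then the trace of `t` is
`∑ i, r i • m i` on `V₁`.
-/

set_option autoImplicit false
universe u
set_option linter.unusedSectionVars false

open CategoryTheory CategoryTheory.Limits AlgebraicGeometry Opposite

namespace Groth.Agent.Etdl.H296.TraceSum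

open Groth.Agent.Sga4B.EtUnit Groth.Agent.Sga4B.TraceRel
open Groth.Agent.Sga4B.UnitInj Groth.Agent.Sga4B.ClopenRank Groth.Agent.Etdl.H445.TraceCalc
open Groth.Agent.Etdl.H445.TraceVar2

variable {X S : Scheme.{u}} (f : X ⟶ S) [IsFinite f] [Flat f] [LocallyOfFinitePresentation f]

/-- naturality of the trace in the étale `S`-scheme -/
theorem map_tr (F : EtCoh.Ab S) {V V₁ : S.Etale} (k : V₁ ⟶ V)
    (t : EtCoh.sect ((EtCoh.pull f).obj F) ((EtCoh.bc f).obj V)) :
    F.obj.map k.op ((tr f F).hom.app (op V) t) =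
      (tr f F).hom.app (op V₁) (((EtCoh.pull f).obj F).obj.map ((EtCoh.bc f).map k).op t) :=
  (nat_map (tr f F) k t).symm

variable {f}

theorem rel_of_split {F : EtCoh.Ab S} {V : S.Etale}
    {t : EtCoh.sect ((EtCoh.pull f).obj F) ((EtCoh.bc f).obj V)}
    {ι : Type u} [Fintype ι] {c : ((EtCoh.bc f).obj V).left → ι} (hc : IsLocallyConstant c)
    {m : ι → EtCoh.sect F V} (h : Split f F V t c m) {V₁ : S.Etale} (k : V₁ ⟶ V) (r : ι → ℕ)
    (hr : ∀ i (v : V₁.left), rk (pr f V) c hc i (k.left v) = r i) :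
    Rel f F V₁ (((EtCoh.pull f).obj F).obj.map ((EtCoh.bc f).map k).op t)
      (∑ i, r i • F.obj.map k.op (m i)) := by
  refine ⟨ι, inferInstance, _, isLocallyConstant_comp k hc, _, h.comp k, ?_⟩
  intro V'' g' r' hne hr'
  obtain ⟨w⟩ := hne
  have e : r' = r := by
    funext i
    rw [← hr' i w, rk_comp k hc, hr]
  rw [map_sum, e]
  exact Finset.sum_congr rfl fun i _ => map_nsmul _ _ _

/-- the trace of a split section -/
theorem tr_of_split {F : EtCoh.Ab S} {V : S.Etale}
    {t : EtCoh.sect ((EtCoh.pull f).obj F) ((EtCoh.bc f).obj V)}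
    {ι : Type u} [Fintype ι] {c : ((EtCoh.bc f).obj V).left → ι} (hc : IsLocallyConstant c)
    {m : ι → EtCoh.sect F V} (h : Split f F V t c m) {V₁ : S.Etale} (k : V₁ ⟶ V) (r : ι → ℕ)
    (hr : ∀ i (v : V₁.left), rk (pr f V) c hc i (k.left v) = r i) :
    F.obj.map k.op ((tr f F).hom.app (op V) t) = ∑ i, r i • F.obj.map k.op (m i) := by
  rw [map_tr]
  exact tr_of_rel f F V₁ (rel_of_split hc h k r hr)

end Groth.Agent.Etdl.H296.TraceSum
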