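import Groth.Agent.Etdl.H296.TraceComp
import Groth.Agent.Etdl.H445.RankComp

/-!
# Transitivity of the trace on sections
-/

set_option autoImplicit false
universe u
set_option linter.unusedSectionVars false

open CategoryTheory CategoryTheory.Limits AlgebraicGeometry Opposite

namespace Groth.Agent.Etdl.H296.TraceTrans

open Groth.Agent.Sga4B.EtUnit Groth.Agent.Sga4B.TraceRel
open Groth.Agent.Sga4B.UnitInj Groth.Agent.Sga4B.ClopenRank Groth.Agent.Etdl.H445.TraceCalc
open Groth.Agent.Etdl.H445.TraceVar2 TraceSum TraceComp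

variable {X Y S : Scheme.{u}} (h : X ⟶ Y) (g : Y ⟶ S)

theorem qc_pr (V : S.Etale) :
    qc h g V ≫ pr (h ≫ g) V = pr h ((EtCoh.bc g).obj V) ≫ pr g V := by
  have h1 := cmp_hom_left h g V
  have h2 : (cmp h g V).inv ≫ (cmp h g V).hom = 𝟙 _ := (cmp h g V).inv_hom_id
  have h3 : (cmp h g V).inv.left ≫ (cmp h g V).hom.left = 𝟙 _ :=
    congrArg (fun k ↦ k.left) h2
  rw [qc, ← h1, ← Category.assoc]
  refine (congrArg (· ≫ (pr h ((EtCoh.bc g).obj V) ≫ pr g V)) h3).trans ?_
  exact Category.id_comp _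

instance isIso_qc (V : S.Etale) : IsIso (qc h g V) := by
  have h2 : (cmp h g V).inv ≫ (cmp h g V).hom = 𝟙 _ := (cmp h g V).inv_hom_id
  have h3 : (cmp h g V).inv.left ≫ (cmp h g V).hom.left = 𝟙 _ :=
    congrArg (fun k ↦ k.left) h2
  have h4 : (cmp h g V).hom ≫ (cmp h g V).inv = 𝟙 _ := (cmp h g V).hom_inv_id
  have h5 : (cmp h g V).hom.left ≫ (cmp h g V).inv.left = 𝟙 _ :=
    congrArg (fun k ↦ k.left) h4
  exact ⟨(cmp h g V).hom.left, h3, h5⟩

theorem isPullback_qc (V : S.Etale) :
    IsPullback (qc h g V) (pr h ((EtCoh.bc g).obj V) ≫ pr g V) (pr (h ≫ g) V) (𝟙 V.left) :=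
  IsPullback.of_horiz_isIso ⟨by rw [qc_pr, Category.comp_id]⟩

theorem isLocallyConstant_qc {V : S.Etale} {ι : Type u}
    {c : ((EtCoh.bc (h ≫ g)).obj V).left → ι} (hc : IsLocallyConstant c) :
    IsLocallyConstant (fun y => c (qc h g V y)) :=
  hc.comp_continuous (qc h g V).continuous

variable [IsFinite h] [Flat h] [LocallyOfFinitePresentation h]
  [IsFinite g] [Flat g] [LocallyOfFinitePresentation g]
  [IsFinite (h ≫ g)] [Flat (h ≫ g)] [LocallyOfFinitePresentation (h ≫ g)]

/-- the affine neighbourhoods in the small étale site -/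
theorem exists_affine_nhd (V : S.Etale) (v : V.left) :
    ∃ (V' : S.Etale) (k : V' ⟶ V) (v' : V'.left), k.left v' = v ∧ IsAffine V'.left := by
  obtain ⟨O, hO, hv, -⟩ := (TopologicalSpace.Opens.isBasis_iff_nbhd.mp V.left.isBasis_affineOpens)
    (show v ∈ (⊤ : V.left.Opens) from trivial)
  exact ⟨openObj V O, openMap V O, ⟨v, hv⟩, rfl, hO⟩

theorem compactSpace_bc (V : S.Etale) [IsAffine V.left] : CompactSpace ((EtCoh.bc g).obj V).left := by
  have : IsAffine ((EtCoh.bc g).obj V).left := isAffine_of_isAffineHom (pr g V)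
  infer_instance

/-- the vector of ranks -/
noncomputable def rkv (V : S.Etale) {ι : Type u}
    {c : ((EtCoh.bc (h ≫ g)).obj V).left → ι} (hc : IsLocallyConstant c)
    (y : ((EtCoh.bc g).obj V).left) (i : ι) : ℕ :=
  rk (pr h ((EtCoh.bc g).obj V)) (fun y => c (qc h g V y)) (isLocallyConstant_qc h g hc) i y

theorem isLocallyConstant_rkv (V : S.Etale) {ι : Type u} [Finite ι]
    {c : ((EtCoh.bc (h ≫ g)).obj V).left → ι} (hc : IsLocallyConstant c) :
    IsLocallyConstant (rkv h g V hc) := by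
  rw [IsLocallyConstant.iff_continuous]
  refine continuous_pi fun i => ?_
  exact (isLocallyConstant_rk (pr h ((EtCoh.bc g).obj V)) (fun y => c (qc h g V y))
    (isLocallyConstant_qc h g hc) i).continuous

/-- the rank of a piece for the composite -/
theorem rk_qc (V : S.Etale) {ι : Type u} {c : ((EtCoh.bc (h ≫ g)).obj V).left → ι}
    (hc : IsLocallyConstant c) (i : ι) (v : V.left) :
    rk (pr h ((EtCoh.bc g).obj V) ≫ pr g V) (fun y => c (qc h g V y))
      (isLocallyConstant_qc h g hc) i v = rk (pr (h ≫ g) V) c hc i v :=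
  rk_baseChange (isPullback_qc h g V) c hc _ _ (fun _ => rfl) i v

/-- Transitivity of the trace, for a split section over an affine base -/
theorem tr_tr_of_split {F : EtCoh.Ab S} {V : S.Etale} [IsAffine V.left]
    {t : EtCoh.sect ((EtCoh.pull (h ≫ g)).obj F) ((EtCoh.bc (h ≫ g)).obj V)}
    {ι : Type u} [Fintype ι] {c : ((EtCoh.bc (h ≫ g)).obj V).left → ι} (hc : IsLocallyConstant c)
    {m : ι → EtCoh.sect F V} (hs : Split (h ≫ g) F V t c m) :
    (tr g F).hom.app (op V) ((tr h ((EtCoh.pull g).obj F)).hom.app (op ((EtCoh.bc g).obj V))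
      (tcomp h g F V t)) = (tr (h ≫ g) F).hom.app (op V) t := by
  classical
  have hcomp := compactSpace_bc g V
  have hd := isLocallyConstant_rkv h g V hc
  have hfin : (Set.range (rkv h g V hc)).Finite := hd.range_finite
  have : Fintype ↥(Set.range (rkv h g V hc)) := hfin.fintype
  let e : ((EtCoh.bc g).obj V).left → ↥(Set.range (rkv h g V hc)) := fun y => ⟨_, y, rfl⟩
  have he : IsLocallyConstant e := IsLocallyConstant.desc e Subtype.val hd Subtype.val_injective
  have hs' : Split g F V ((tr h ((EtCoh.pull g).obj F)).hom.app (op ((EtCoh.bc g).obj V))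
      (tcomp h g F V t)) e (fun κ => ∑ i, κ.1 i • m i) := by
    intro κ U k hk
    have h1 := tr_of_split (f := h) (isLocallyConstant_qc h g hc) (split_comp h g hs) k κ.1
      (fun i u => congrFun (congrArg Subtype.val (hk u)) i)
    rw [h1, map_sum, map_sum]
    refine Finset.sum_congr rfl fun i _ => ?_
    rw [map_nsmul, map_nsmul]
  apply Groth.Agent.Etbase.EtSite.sect_ext
  intro v
  obtain ⟨V', k, v', hv', hr⟩ := exists_const_rk (f := g) V e he v
  refine ⟨V', k, v', hv', ?_⟩
  rw [tr_of_split he hs' k _ hr,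
    tr_of_split hc hs k (fun i => ∑ κ, rk (pr g V) e he κ v * κ.1 i) ?_]
  · simp only [Finset.sum_smul, map_sum, map_nsmul, Finset.smul_sum, smul_smul]
    rw [Finset.sum_comm]
  · intro i w
    rw [← rk_qc h g V hc, Groth.Agent.Etdl.H445.RankComp.rk_comp_colouring
      (pr h ((EtCoh.bc g).obj V)) (pr g V) _ (isLocallyConstant_qc h g hc) e he
      (fun κ i => κ.1 i) (fun i y => rfl)]
    exact Finset.sum_congr rfl fun κ _ => by rw [hr]

/-- Transitivity of the trace on sections having a trace -/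
theorem tr_tr_of_rel {F : EtCoh.Ab S} {V : S.Etale}
    {t : EtCoh.sect ((EtCoh.pull (h ≫ g)).obj F) ((EtCoh.bc (h ≫ g)).obj V)}
    {τ : EtCoh.sect F V} (hrel : Rel (h ≫ g) F V t τ) :
    (tr g F).hom.app (op V) ((tr h ((EtCoh.pull g).obj F)).hom.app (op ((EtCoh.bc g).obj V))
      (tcomp h g F V t)) = τ := by
  obtain ⟨ι, _, c, hc, m, h1, h2⟩ := hrel
  have h3 := tr_of_rel (h ≫ g) F V ⟨ι, inferInstance, c, hc, m, h1, h2⟩
  rw [← h3]
  apply Groth.Agent.Etbase.EtSite.sect_ext
  intro v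
  obtain ⟨V', k, v', hv', hV'⟩ := exists_affine_nhd V v
  refine ⟨V', k, v', hv', ?_⟩
  rw [map_tr, map_tr, map_tr, map_tcomp]
  exact tr_tr_of_split h g (isLocallyConstant_comp k hc) (h1.comp k)

end Groth.Agent.Etdl.H296.TraceTrans
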