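import Groth.Agent.Etdl.H296.TraceVar3

/-!
# Families of traces satisfying (Var 2), (Var 3), (Var 4), on sections
-/

set_option autoImplicit false
universe u
set_option linter.unusedSectionVars false

open CategoryTheory CategoryTheory.Limits AlgebraicGeometry Opposite

namespace Groth.Agent.Etdl.H296.TraceUniq1

open Groth.Agent.Sga4B.EtUnit Groth.Agent.Sga4B.TraceRel Groth.Agent.EtpbcB.BCCrit
open Groth.Agent.Sga4B.UnitInj Groth.Agent.Etdl.H445.TraceCalc Groth.Agent.Etdl.H445.TraceBC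
open Groth.Agent.Etdl.H445.TraceVar2 Groth.Agent.Etdl.H445.TraceGen TraceSum TraceComp TraceTrans
open TraceVar3

theorem var2_generic' {X S X' S' : Scheme.{u}} (Pf : EtCoh.Ab S ⥤ EtCoh.Ab X)
    (Pg' : EtCoh.Ab X ⥤ EtCoh.Ab X')
    (Pg : EtCoh.Ab S ⥤ EtCoh.Ab S') (Pf' : EtCoh.Ab S' ⥤ EtCoh.Ab X')
    (P₁ P₂ : EtCoh.Ab S ⥤ EtCoh.Ab X')
    (Qf : EtCoh.Ab X ⥤ EtCoh.Ab S) (Qf' : EtCoh.Ab X' ⥤ EtCoh.Ab S')
    (α : P₁ ≅ Pf ⋙ Pg') (β : P₁ ≅ P₂) (γ : P₂ ≅ Pg ⋙ Pf')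
    (T : Pf ⋙ Qf ⟶ 𝟭 (EtCoh.Ab S)) (T' : Pf' ⋙ Qf' ⟶ 𝟭 (EtCoh.Ab S')) (F : EtCoh.Ab S)
    (b : Pg.obj (Qf.obj (Pf.obj F)) ⟶ Qf'.obj (Pg'.obj (Pf.obj F)))
    (h : b ≫ Qf'.map (α.inv.app F ≫ β.hom.app F ≫ γ.hom.app F) ≫ T'.app (Pg.obj F) =
      Pg.map (T.app F)) :
    b ≫ Qf'.map (muG Pf Pg' Pg Pf' P₁ P₂ α β γ F) ≫ trG Pf' Qf' T' (Pg.obj F) =
      Pg.map (trG Pf Qf T F) := h

theorem var3_generic' {X Y S : Scheme.{u}} (Pg : EtCoh.Ab S ⥤ EtCoh.Ab Y)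
    (Ph : EtCoh.Ab Y ⥤ EtCoh.Ab X)
    (P : EtCoh.Ab S ⥤ EtCoh.Ab X) (Qh : EtCoh.Ab X ⥤ EtCoh.Ab Y) (Qg : EtCoh.Ab Y ⥤ EtCoh.Ab S)
    (Q : EtCoh.Ab X ⥤ EtCoh.Ab S) (α : P ≅ Pg ⋙ Ph) (ε : Qh ⋙ Qg ≅ Q)
    (T : P ⋙ Q ⟶ 𝟭 (EtCoh.Ab S)) (Th : Ph ⋙ Qh ⟶ 𝟭 (EtCoh.Ab Y)) (Tg : Pg ⋙ Qg ⟶ 𝟭 (EtCoh.Ab S))
    (F : EtCoh.Ab S)
    (h : T.app F = Q.map (α.hom.app F) ≫ ε.inv.app (Ph.obj (Pg.obj F)) ≫
      Qg.map (Th.app (Pg.obj F)) ≫ Tg.app F) :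
    trG P Q T F = Q.map (toComp Pg Ph P α.hom F) ≫
      toComp Qh Qg Q ε.inv (Ph.obj (Pg.obj F)) ≫ Qg.map (trG Ph Qh Th (Pg.obj F)) ≫
        trG Pg Qg Tg F := h

theorem var4_generic' {X S : Scheme.{u}} (P : EtCoh.Ab S ⥤ EtCoh.Ab X) (Q : EtCoh.Ab X ⥤ EtCoh.Ab S)
    (η : 𝟭 _ ⟶ P ⋙ Q) (T : P ⋙ Q ⟶ 𝟭 (EtCoh.Ab S)) (F : EtCoh.Ab S) (n : ℕ)
    (h : η.app F ≫ T.app F = n • 𝟙 F) : toComp P Q (𝟭 _) η F ≫ trG P Q T F = n • 𝟙 F := h

/-- the value of a trace on a section -/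
noncomputable def tv {X S : Scheme.{u}} {f : X ⟶ S} (T : EtCoh.pull f ⋙ EtCoh.push f ⟶ 𝟭 (EtCoh.Ab S))
    (F : EtCoh.Ab S) (V : S.Etale) :
    EtCoh.sect ((EtCoh.pull f).obj F) ((EtCoh.bc f).obj V) →+ EtCoh.sect F V :=
  ((trG (EtCoh.pull f) (EtCoh.push f) T F).hom.app (op V)).hom

theorem map_tv {X S : Scheme.{u}} {f : X ⟶ S} (T : EtCoh.pull f ⋙ EtCoh.push f ⟶ 𝟭 (EtCoh.Ab S))
    (F : EtCoh.Ab S) {V V₁ : S.Etale} (k : V₁ ⟶ V)
    (t : EtCoh.sect ((EtCoh.pull f).obj F) ((EtCoh.bc f).obj V)) :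
    F.obj.map k.op (tv T F V t) =
      tv T F V₁ (((EtCoh.pull f).obj F).obj.map ((EtCoh.bc f).map k).op t) :=
  (nat_map (trG (EtCoh.pull f) (EtCoh.push f) T F) k t).symm

/-- the left hand side of (Var 2) for a general candidate -/
noncomputable def lhsG {X S X' S' : Scheme.{u}} (f : X ⟶ S) (g : S' ⟶ S) (f' : X' ⟶ S')
    (g' : X' ⟶ X) (w : g' ≫ f = f' ≫ g) (F : EtCoh.Ab S)
    (t' : (EtCoh.push f').obj ((EtCoh.pull f').obj ((EtCoh.pull g).obj F)) ⟶ (EtCoh.pull g).obj F) :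
    (EtCoh.pull g).obj ((EtCoh.push f).obj ((EtCoh.pull f).obj F)) ⟶ (EtCoh.pull g).obj F :=
  EtCoh.baseChange0 f g f' g' w ((EtCoh.pull f).obj F) ≫
      (EtCoh.push f').map (mu f g f' g' w F) ≫ t'

theorem lhsG_usec {X S X' S' : Scheme.{u}} (f : X ⟶ S) (g : S' ⟶ S) (f' : X' ⟶ S') (g' : X' ⟶ X)
    (w : g' ≫ f = f' ≫ g) (F : EtCoh.Ab S)
    (t' : (EtCoh.push f').obj ((EtCoh.pull f').obj ((EtCoh.pull g).obj F)) ⟶ (EtCoh.pull g).obj F)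
    (V : S.Etale) (t : EtCoh.sect ((EtCoh.pull f).obj F) ((EtCoh.bc f).obj V)) :
    (lhsG f g f' g' w F t').hom.app (op ((EtCoh.bc g).obj V))
        (usec g ((EtCoh.push f).obj ((EtCoh.pull f).obj F)) V t) =
      t'.hom.app (op ((EtCoh.bc g).obj V)) (tpull w F V t) :=
  eval_push f' (EtCoh.baseChange0 f g f' g' w ((EtCoh.pull f).obj F)) (mu f g f' g' w F)
    t' ((EtCoh.bc g).obj V)
    (usec g ((EtCoh.push f).obj ((EtCoh.pull f).obj F)) V t)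
    (((EtCoh.pull g').obj ((EtCoh.pull f).obj F)).obj.map (theta f g f' g' w V).hom.op
      (usec g' ((EtCoh.pull f).obj F) ((EtCoh.bc f).obj V) t))
    (baseChange0_usec f g f' g' w ((EtCoh.pull f).obj F) V t)

theorem lhsG_eq {X S X' S' : Scheme.{u}} (f : X ⟶ S) (g : S' ⟶ S) (f' : X' ⟶ S') (g' : X' ⟶ X)
    (w : g' ≫ f = f' ≫ g) (T : EtCoh.pull f ⋙ EtCoh.push f ⟶ 𝟭 (EtCoh.Ab S))
    (T' : EtCoh.pull f' ⋙ EtCoh.push f' ⟶ 𝟭 (EtCoh.Ab S')) (F : EtCoh.Ab S)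
    (h : EtCoh.baseChange0 f g f' g' w ((EtCoh.pull f).obj F) ≫
          (EtCoh.push f').map ((EtCore.pullComp g' f).inv.app F ≫ (EtCore.pullCongr w).hom.app F ≫
            (EtCore.pullComp f' g).hom.app F) ≫ T'.app ((EtCoh.pull g).obj F) =
          (EtCoh.pull g).map (T.app F)) :
    lhsG f g f' g' w F (trG (EtCoh.pull f') (EtCoh.push f') T' ((EtCoh.pull g).obj F)) =
      (EtCoh.pull g).map (trG (EtCoh.pull f) (EtCoh.push f) T F) :=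
  var2_generic' (EtCoh.pull f) (EtCoh.pull g') (EtCoh.pull g) (EtCoh.pull f')
    (EtCoh.pull (g' ≫ f))
    (EtCoh.pull (f' ≫ g)) (EtCoh.push f) (EtCoh.push f') (EtCore.pullComp g' f)
    (EtCore.pullCongr w) (EtCore.pullComp f' g) T T' F
    (EtCoh.baseChange0 f g f' g' w ((EtCoh.pull f).obj F)) h

theorem tv_tpull_aux {X S S' : Scheme.{u}} (f : X ⟶ S) (g : S' ⟶ S) (F : EtCoh.Ab S)
    (V : S.Etale) (t : EtCoh.sect ((EtCoh.pull f).obj F) ((EtCoh.bc f).obj V))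
    (a : (EtCoh.pull g).obj ((EtCoh.push f).obj ((EtCoh.pull f).obj F)) ⟶ (EtCoh.pull g).obj F)
    (b : (EtCoh.push f).obj ((EtCoh.pull f).obj F) ⟶ F) (h : a = (EtCoh.pull g).map b) :
    a.hom.app (op ((EtCoh.bc g).obj V))
        (usec g ((EtCoh.push f).obj ((EtCoh.pull f).obj F)) V t) =
      usec g F V (b.hom.app (op V) t) := by
  subst h
  exact usec_natural g b V t

/-- (Var 2) on sections -/
theorem tv_tpull {X S X' S' : Scheme.{u}} (f : X ⟶ S) (g : S' ⟶ S) (f' : X' ⟶ S') (g' : X' ⟶ X)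
    (w : g' ≫ f = f' ≫ g) (T : EtCoh.pull f ⋙ EtCoh.push f ⟶ 𝟭 (EtCoh.Ab S))
    (T' : EtCoh.pull f' ⋙ EtCoh.push f' ⟶ 𝟭 (EtCoh.Ab S')) (F : EtCoh.Ab S)
    (h : EtCoh.baseChange0 f g f' g' w ((EtCoh.pull f).obj F) ≫
          (EtCoh.push f').map ((EtCore.pullComp g' f).inv.app F ≫ (EtCore.pullCongr w).hom.app F ≫
            (EtCore.pullComp f' g).hom.app F) ≫ T'.app ((EtCoh.pull g).obj F) =
          (EtCoh.pull g).map (T.app F))
    (V : S.Etale) (t : EtCoh.sect ((EtCoh.pull f).obj F) ((EtCoh.bc f).obj V)) :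
    tv T' ((EtCoh.pull g).obj F) ((EtCoh.bc g).obj V) (tpull w F V t) =
      usec g F V (tv T F V t) :=
  (lhsG_usec f g f' g' w F _ V t).symm.trans
    (tv_tpull_aux f g F V t _ _ (lhsG_eq f g f' g' w T T' F h))

/-- (Var 3) on sections -/
theorem tv_tcomp {X Y S : Scheme.{u}} (h : X ⟶ Y) (g : Y ⟶ S)
    (T : EtCoh.pull (h ≫ g) ⋙ EtCoh.push (h ≫ g) ⟶ 𝟭 (EtCoh.Ab S))
    (Th : EtCoh.pull h ⋙ EtCoh.push h ⟶ 𝟭 (EtCoh.Ab Y))
    (Tg : EtCoh.pull g ⋙ EtCoh.push g ⟶ 𝟭 (EtCoh.Ab S)) (F : EtCoh.Ab S)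
    (e : T.app F =
          (EtCoh.push (h ≫ g)).map ((EtCore.pullComp h g).hom.app F) ≫
            (EtCoh.pushComp g h).inv.app ((EtCoh.pull h).obj ((EtCoh.pull g).obj F)) ≫
            (EtCoh.push g).map (Th.app ((EtCoh.pull g).obj F)) ≫ Tg.app F)
    (V : S.Etale) (t : EtCoh.sect ((EtCoh.pull (h ≫ g)).obj F) ((EtCoh.bc (h ≫ g)).obj V)) :
    tv T F V t = tv Tg F V (tv Th ((EtCoh.pull g).obj F) ((EtCoh.bc g).obj V) (tcomp h g F V t)) := by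
  have h1 := var3_generic' (EtCoh.pull g) (EtCoh.pull h) (EtCoh.pull (h ≫ g)) (EtCoh.push h)
    (EtCoh.push g)
    (EtCoh.push (h ≫ g)) (EtCore.pullComp h g) (EtCoh.pushComp g h) T Th Tg F e
  have h2 := congr($(h1).hom.app (op V) t)
  refine h2.trans ?_
  refine (eval4 ((EtCoh.push (h ≫ g)).map (pc h g F))
    (pshi h g ((EtCoh.pull h).obj ((EtCoh.pull g).obj F)))
    ((EtCoh.push g).map (trG (EtCoh.pull h) (EtCoh.push h) Th ((EtCoh.pull g).obj F)))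
    (trG (EtCoh.pull g) (EtCoh.push g) Tg F) (op V) t).trans ?_
  rw [push_map_apply, pshi_apply, push_map_apply]
  rfl

theorem nsmul_id_apply {S : Scheme.{u}} (F : EtCoh.Ab S) (n : ℕ) (V : S.Etale)
    (m : EtCoh.sect F V) : (n • 𝟙 F : F ⟶ F).hom.app (op V) m = n • m := by
  have h : (n • 𝟙 F : F ⟶ F).hom = n • 𝟙 F.obj :=
    Functor.map_nsmul (F := sheafToPresheaf _ _) (f := 𝟙 F) (n := n)
  rw [h]
  rfl

/-- (Var 4) on sections -/
theorem tv_usec_of_const {X S : Scheme.{u}} (f : X ⟶ S)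
    (T : EtCoh.pull f ⋙ EtCoh.push f ⟶ 𝟭 (EtCoh.Ab S)) (F : EtCoh.Ab S) (n : ℕ)
    (h : (EtCoh.pullPushAdj f).unit.app F ≫ T.app F = n • 𝟙 F) (V : S.Etale) (m : EtCoh.sect F V) :
    tv T F V (usec f F V m) = n • m := by
  have h1 := var4_generic' (EtCoh.pull f) (EtCoh.push f) (EtCoh.pullPushAdj f).unit T F n h
  have h2 := congr($(h1).hom.app (op V) m)
  rw [nsmul_id_apply] at h2
  exact h2

/-- injectivity of `F(V) → (g⁻¹ F)(U)` for `U → V` surjective -/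
theorem usec_inj {S S' : Scheme.{u}} (g : S' ⟶ S) (F : EtCoh.Ab S) (V : S.Etale)
    {a b : EtCoh.sect F V} (U : S'.Etale) (k : U ⟶ (EtCoh.bc g).obj V)
    (hs : ∀ v : V.left, ∃ u : U.left, pr g V (k.left u) = v)
    (h : ((EtCoh.pull g).obj F).obj.map k.op (usec g F V a) =
      ((EtCoh.pull g).obj F).obj.map k.op (usec g F V b)) : a = b := by
  rw [← sub_eq_zero]
  apply usec_eq_zero g F V (a - b) U k hs
  rw [map_sub, map_sub, h, sub_self]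

/-- the final étale scheme -/
noncomputable def idObj (S : Scheme.{u}) : S.Etale :=
  MorphismProperty.Over.mk ⊤ (𝟙 S) (inferInstanceAs (AlgebraicGeometry.Etale (𝟙 S)))

/-- the diagonal `V ⟶ V ×_S V` -/
noncomputable def diag {S : Scheme.{u}} (V : S.Etale) : idObj V.left ⟶ (EtCoh.bc V.hom).obj V :=
  MorphismProperty.Over.homMk (pullback.lift (𝟙 V.left) (𝟙 V.left) rfl)
    (pullback.lift_snd (f := V.hom) (g := V.hom) (𝟙 V.left) (𝟙 V.left) rfl)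

theorem diag_pr {S : Scheme.{u}} (V : S.Etale) : (diag V).left ≫ pr V.hom V = 𝟙 V.left :=
  pullback.lift_fst (f := V.hom) (g := V.hom) (𝟙 V.left) (𝟙 V.left) rfl

/-- a family of candidates for the trace -/
structure IsTr (T : ∀ ⦃X S : Scheme.{u}⦄ (f : X ⟶ S) [IsFinite f] [Flat f]
    [LocallyOfFinitePresentation f], EtCoh.pull f ⋙ EtCoh.push f ⟶ 𝟭 (EtCoh.Ab S)) : Prop where
  v2 : ∀ ⦃X S X' S' : Scheme.{u}⦄ (f : X ⟶ S) (g : S' ⟶ S) (f' : X' ⟶ S') (g' : X' ⟶ X)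
          (hc : IsPullback g' f' f g)
          [IsFinite f] [Flat f] [LocallyOfFinitePresentation f]
          [IsFinite f'] [Flat f'] [LocallyOfFinitePresentation f'] (F : EtCoh.Ab S),
        EtCoh.baseChange0 f g f' g' hc.w ((EtCoh.pull f).obj F) ≫
          (EtCoh.push f').map ((EtCore.pullComp g' f).inv.app F ≫ (EtCore.pullCongr hc.w).hom.app F ≫
            (EtCore.pullComp f' g).hom.app F) ≫ (T f').app ((EtCoh.pull g).obj F) =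
          (EtCoh.pull g).map ((T f).app F)
  v3 : ∀ ⦃X Y S : Scheme.{u}⦄ (h : X ⟶ Y) (g : Y ⟶ S)
          [IsFinite h] [Flat h] [LocallyOfFinitePresentation h]
          [IsFinite g] [Flat g] [LocallyOfFinitePresentation g]
          [IsFinite (h ≫ g)] [Flat (h ≫ g)] [LocallyOfFinitePresentation (h ≫ g)] (F : EtCoh.Ab S),
        (T (h ≫ g)).app F =
          (EtCoh.push (h ≫ g)).map ((EtCore.pullComp h g).hom.app F) ≫
            (EtCoh.pushComp g h).inv.app ((EtCoh.pull h).obj ((EtCoh.pull g).obj F)) ≫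
            (EtCoh.push g).map ((T h).app ((EtCoh.pull g).obj F)) ≫ (T g).app F
  v4 : ∀ ⦃X S : Scheme.{u}⦄ (f : X ⟶ S) [IsFinite f] [Flat f] [LocallyOfFinitePresentation f] (n : ℕ)
          (_ : ∀ s : S, f.finrank s = n) (F : EtCoh.Ab S),
        (EtCoh.pullPushAdj f).unit.app F ≫ (T f).app F = n • 𝟙 F

namespace IsTr

variable {T : ∀ ⦃X S : Scheme.{u}⦄ (f : X ⟶ S) [IsFinite f] [Flat f]
    [LocallyOfFinitePresentation f], EtCoh.pull f ⋙ EtCoh.push f ⟶ 𝟭 (EtCoh.Ab S)}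
  (hT : IsTr T)
include hT

/-- (Var 2) -/
theorem base {X S X' S' : Scheme.{u}} {f : X ⟶ S} {g : S' ⟶ S} {f' : X' ⟶ S'} {g' : X' ⟶ X}
    (hc : IsPullback g' f' f g)
    [IsFinite f] [Flat f] [LocallyOfFinitePresentation f]
    [IsFinite f'] [Flat f'] [LocallyOfFinitePresentation f'] (F : EtCoh.Ab S)
    (V : S.Etale) (t : EtCoh.sect ((EtCoh.pull f).obj F) ((EtCoh.bc f).obj V)) :
    tv (T f') ((EtCoh.pull g).obj F) ((EtCoh.bc g).obj V) (tpull hc.w F V t) =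
      usec g F V (tv (T f) F V t) :=
  tv_tpull f g f' g' hc.w (T f) (T f') F (hT.v2 f g f' g' hc F) V t

/-- the trace of a unit section, if the rank is constant on `V` -/
theorem tv_usec_aux {X S X' S' : Scheme.{u}} {f : X ⟶ S} {g : S' ⟶ S} {f' : X' ⟶ S'} {g' : X' ⟶ X}
    (hc : IsPullback g' f' f g)
    [IsFinite f] [Flat f] [LocallyOfFinitePresentation f]
    [IsFinite f'] [Flat f'] [LocallyOfFinitePresentation f'] (F : EtCoh.Ab S)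
    (V : S.Etale) (n : ℕ) (hn : ∀ s : S', f'.finrank s = n)
    (m : EtCoh.sect F V) :
    usec g F V (tv (T f) F V (usec f F V m)) = usec g F V (n • m) := by
  have h1 := hT.base hc F V (usec f F V m)
  have h2 := tpull_usec (f := f) (g := g) (f' := f') (g' := g') hc.w F V m
  have h3 := tv_usec_of_const f' (T f') ((EtCoh.pull g).obj F) n
    (hT.v4 f' n hn ((EtCoh.pull g).obj F))
    ((EtCoh.bc g).obj V) (usec g F V m)
  rw [map_nsmul]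
  exact h1.symm.trans ((congrArg _ h2).trans h3)

theorem tv_usec_aux2 {X S X' S' : Scheme.{u}} {f : X ⟶ S} {g : S' ⟶ S} {f' : X' ⟶ S'} {g' : X' ⟶ X}
    (hc : IsPullback g' f' f g)
    [IsFinite f] [Flat f] [LocallyOfFinitePresentation f]
    [IsFinite f'] [Flat f'] [LocallyOfFinitePresentation f'] (F : EtCoh.Ab S)
    (V : S.Etale) (U : S'.Etale) (k : U ⟶ (EtCoh.bc g).obj V)
    (hs : ∀ v : V.left, ∃ u : U.left, pr g V (k.left u) = v)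
    (n : ℕ) (hn : ∀ s : S', f'.finrank s = n) (m : EtCoh.sect F V) :
    tv (T f) F V (usec f F V m) = n • m :=
  usec_inj g F V U k hs (congrArg _ (hT.tv_usec_aux hc F V n hn m))

theorem tv_usec {X S : Scheme.{u}} (f : X ⟶ S) [IsFinite f] [Flat f] [LocallyOfFinitePresentation f]
    (F : EtCoh.Ab S) (V : S.Etale) (n : ℕ) (hn : ∀ v : V.left, f.finrank (V.hom v) = n)
    (m : EtCoh.sect F V) : tv (T f) F V (usec f F V m) = n • m :=
  hT.tv_usec_aux2 (isPullback_pr f V).flip F V (idObj V.left) (diag V)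
    (fun v => ⟨v, congrArg (fun k : V.left ⟶ V.left => k v) (diag_pr V)⟩) n
    (fun v => (finrank_pr f V v).trans (hn v)) m

/-- (Var 3) and (Var 4): the trace of the extension by zero of a unit section -/
theorem tv_tv_usec {X Y S : Scheme.{u}} (h : X ⟶ Y) (g : Y ⟶ S)
    [IsFinite h] [Flat h] [LocallyOfFinitePresentation h]
    [IsFinite g] [Flat g] [LocallyOfFinitePresentation g]
    [IsFinite (h ≫ g)] [Flat (h ≫ g)] [LocallyOfFinitePresentation (h ≫ g)] (F : EtCoh.Ab S)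
    (V : S.Etale) (n : ℕ) (hn : ∀ v : V.left, (h ≫ g).finrank (V.hom v) = n)
    (m : EtCoh.sect F V) :
    tv (T g) F V (tv (T h) ((EtCoh.pull g).obj F) ((EtCoh.bc g).obj V)
      (usec h ((EtCoh.pull g).obj F) ((EtCoh.bc g).obj V) (usec g F V m))) = n • m := by
  rw [← hT.tv_usec (h ≫ g) F V n hn m, ← tcomp_usec h g F V m]
  exact (tv_tcomp h g (T (h ≫ g)) (T h) (T g) F (hT.v3 h g F) V (usec (h ≫ g) F V m)).symm

end IsTr

end Groth.Agent.Etdl.H296.TraceUniq1
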