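import Groth.Agent.Etdl.H296.TraceUniq1

/-!
# Uniqueness of the trace
-/

set_option autoImplicit false
universe u
set_option linter.unusedSectionVars false

open CategoryTheory CategoryTheory.Limits AlgebraicGeometry Opposite

namespace Groth.Agent.Etdl.H296.TraceUniq2

open Groth.Agent.Sga4B.EtUnit Groth.Agent.Sga4B.TraceRel Groth.Agent.EtpbcB.BCCrit
open Groth.Agent.Sga4B.ClopenRank
open Groth.Agent.Sga4B.UnitInj Groth.Agent.Etdl.H445.TraceCalc Groth.Agent.Etdl.H445.TraceBC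
open Groth.Agent.Etdl.H445.TraceVar2 Groth.Agent.Etdl.H445.TraceGen TraceSum TraceComp TraceTrans
open TraceVar3 TraceUniq1

theorem finrank_piece_self {Y : Scheme.{u}} {ι : Type u} (c : Y → ι) (hc : IsLocallyConstant c)
    (i : ι) (y : Y) (h : c y = i) : (piece c hc i).ι.finrank y = 1 := by
  have sq : IsPullback (𝟙 _) (𝟙 _) (piece c hc i).ι (piece c hc i).ι := IsKernelPair.id_of_mono _
  have e := Scheme.Hom.finrank_of_isPullback _ _ _ _ sq ⟨y, h⟩
  rw [Scheme.Hom.finrank_eq_one_of_isIso] at e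
  exact e.symm

theorem finrank_piece_ne {Y : Scheme.{u}} {ι : Type u} (c : Y → ι) (hc : IsLocallyConstant c)
    (i : ι) (y : Y) (h : c y ≠ i) : (piece c hc i).ι.finrank y = 0 := by
  by_contra hne
  obtain ⟨z, hz⟩ := exists_of_finrank_pos (piece c hc i).ι y (Nat.one_le_iff_ne_zero.2 hne)
  exact h (hz ▸ z.2)

variable {T : ∀ ⦃X S : Scheme.{u}⦄ (f : X ⟶ S) [IsFinite f] [Flat f]
    [LocallyOfFinitePresentation f], EtCoh.pull f ⋙ EtCoh.push f ⟶ 𝟭 (EtCoh.Ab S)}
  (hT : IsTr T)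
include hT

theorem tv_main {X S : Scheme.{u}} (f : X ⟶ S) [IsFinite f] [Flat f] [LocallyOfFinitePresentation f]
    (F : EtCoh.Ab S) (V : S.Etale) {ι : Type u} [Fintype ι] (c : X → ι) (hc : IsLocallyConstant c)
    (m : ι → EtCoh.sect F V) (t : EtCoh.sect ((EtCoh.pull f).obj F) ((EtCoh.bc f).obj V))
    (hs : ∀ (i : ι) (U : X.Etale) (k : U ⟶ (EtCoh.bc f).obj V), (∀ u : U.left, c (U.hom u) = i) →
      ((EtCoh.pull f).obj F).obj.map k.op t = ((EtCoh.pull f).obj F).obj.map k.op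
        (usec f F V (m i)))
    (r : ι → ℕ) (hr : ∀ i (v : V.left), rk f c hc i (V.hom v) = r i) :
    tv (T f) F V t = ∑ i, r i • m i := by
  classical
  let a : ι → EtCoh.sect ((EtCoh.pull f).obj F) ((EtCoh.bc f).obj V) := fun i =>
    tv (T (piece c hc i).ι) ((EtCoh.pull f).obj F) ((EtCoh.bc f).obj V)
      (usec (piece c hc i).ι ((EtCoh.pull f).obj F) ((EtCoh.bc f).obj V) (usec f F V (m i)))
  have ht : t = ∑ i, a i := by
    apply Groth.Agent.Etbase.EtSite.sect_ext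
    intro x
    let i : ι := c (((EtCoh.bc f).obj V).hom x)
    let O : ((EtCoh.bc f).obj V).left.Opens :=
      ⟨(fun y => c (((EtCoh.bc f).obj V).hom y)) ⁻¹' {i},
        (hc.comp_continuous ((EtCoh.bc f).obj V).hom.continuous).isOpen_fiber i⟩
    have hU : ∀ u : (openObj ((EtCoh.bc f).obj V) O).left,
        c ((openObj ((EtCoh.bc f).obj V) O).hom u) = i := fun u => u.2
    refine ⟨openObj ((EtCoh.bc f).obj V) O, openMap _ O, ⟨x, rfl⟩, rfl, ?_⟩
    rw [hs i _ _ hU, map_sum, Finset.sum_eq_single i]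
    · rw [map_tv, usec_map, hT.tv_usec _ _ _ 1 (fun u => finrank_piece_self c hc i _ (hU u)),
        one_smul]
    · intro j _ hj
      rw [map_tv, usec_map, hT.tv_usec _ _ _ 0
        (fun u => finrank_piece_ne c hc j _ (fun e => hj (e.symm.trans (hU u)))), zero_smul]
    · intro h
      exact absurd (Finset.mem_univ _) h
  rw [ht, map_sum]
  refine Finset.sum_congr rfl fun i _ => ?_
  exact hT.tv_tv_usec (piece c hc i).ι f F V (r i) (hr i) (m i)

theorem tv_split_aux {X S X' S' : Scheme.{u}} {f : X ⟶ S} {g : S' ⟶ S} {f' : X' ⟶ S'} {g' : X' ⟶ X}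
    (sq : IsPullback g' f' f g)
    [IsFinite f] [Flat f] [LocallyOfFinitePresentation f]
    [IsFinite f'] [Flat f'] [LocallyOfFinitePresentation f'] (F : EtCoh.Ab S)
    (V : S.Etale) (U : S'.Etale) (k : U ⟶ (EtCoh.bc g).obj V)
    (hs : ∀ v : V.left, ∃ u : U.left, pr g V (k.left u) = v)
    {ι : Type u} [Fintype ι] (c : ((EtCoh.bc f).obj V).left → ι) (hc : IsLocallyConstant c)
    (m : ι → EtCoh.sect F V) (t : EtCoh.sect ((EtCoh.pull f).obj F) ((EtCoh.bc f).obj V))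
    (h : Split f F V t c m) (c' : X' → ι) (hc' : IsLocallyConstant c')
    (hcc : ∀ y : ((EtCoh.bc f').obj U).left,
      c' (((EtCoh.bc f').obj U).hom y) = c (qq sq.w V (((EtCoh.bc f').map k).left y)))
    (r : ι → ℕ) (hr : ∀ i (u : U.left), rk f' c' hc' i (U.hom u) = r i) :
    tv (T f) F V t = ∑ i, r i • m i := by
  apply usec_inj g F V U k hs
  rw [← hT.base sq F V t, map_tv, map_sum, map_sum]
  rw [tv_main hT f' ((EtCoh.pull g).obj F) U c' hc'
    (fun i => ((EtCoh.pull g).obj F).obj.map k.op (usec g F V (m i))) _ ?_ r hr]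
  · refine Finset.sum_congr rfl fun i _ => ?_
    rw [map_nsmul, map_nsmul]
  · intro i U' l hl
    rw [map_map_apply, split_baseChange sq.w hc h i U' (l ≫ (EtCoh.bc f').map k) ?_,
      ← map_map_apply, usec_map]
    intro u
    have e1 : c (qq sq.w V ((l ≫ (EtCoh.bc f').map k).left u)) =
      c' (((EtCoh.bc f').obj U).hom (l.left u)) := (hcc (l.left u)).symm
    have e2 : l.left ≫ ((EtCoh.bc f').obj U).hom = U'.hom := Over.w l.hom
    exact e1.trans ((congrArg (fun q : U'.left ⟶ X' => c' (q u)) e2).trans (hl u))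

omit hT in
theorem chase1 {A B C E E' : Scheme.{u}} (a : A ⟶ B) (p : B ⟶ C) (q : A ⟶ C) (k : A ⟶ E)
    (x : E ⟶ B) (p' : E ⟶ E') (s : E' ⟶ C) (d : C ⟶ E') (h1 : a ≫ p = q ≫ 𝟙 C)
    (h2 : x ≫ p = p' ≫ s) (h3 : k ≫ p' = q ≫ d) (h4 : d ≫ s = 𝟙 C) : a ≫ p = (k ≫ x) ≫ p := by
  rw [h1, Category.assoc, h2, ← Category.assoc, h3, Category.assoc, h4]

omit hT in
theorem diag_qq {X S : Scheme.{u}} (f : X ⟶ S) (V : S.Etale)
    (w : ((EtCoh.bc f).obj V).hom ≫ f = pr f V ≫ V.hom) :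
    ((EtCoh.bc (pr f V)).obj (idObj V.left)).hom =
      ((EtCoh.bc (pr f V)).map (TraceUniq1.diag V)).left ≫ qq w V := by
  refine (isPullback_pr f V).hom_ext ?_ ?_
  · exact chase1 _ (pr f V) (pr (pr f V) (idObj V.left)) _ _
      (pr (pr f V) ((EtCoh.bc V.hom).obj V)) (pr V.hom V) (TraceUniq1.diag V).left
      (isPullback_pr (pr f V) (idObj V.left)).w.symm (qq_pr w V)
      (map_left_pr (pr f V) (TraceUniq1.diag V)) (diag_pr V)
  · have e3 : ((EtCoh.bc (pr f V)).map (TraceUniq1.diag V)).left ≫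
        ((EtCoh.bc (pr f V)).obj ((EtCoh.bc V.hom).obj V)).hom =
        ((EtCoh.bc (pr f V)).obj (idObj V.left)).hom := Over.w ((EtCoh.bc (pr f V)).map (TraceUniq1.diag V)).hom
    rw [Category.assoc, qq_hom, ← Category.assoc]
    exact congrArg (· ≫ ((EtCoh.bc f).obj V).hom) e3.symm

theorem tv_split {X S : Scheme.{u}} (f : X ⟶ S) [IsFinite f] [Flat f] [LocallyOfFinitePresentation f]
    (F : EtCoh.Ab S) (V : S.Etale)
    {ι : Type u} [Fintype ι] (c : ((EtCoh.bc f).obj V).left → ι) (hc : IsLocallyConstant c)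
    (m : ι → EtCoh.sect F V) (t : EtCoh.sect ((EtCoh.pull f).obj F) ((EtCoh.bc f).obj V))
    (h : Split f F V t c m)
    (r : ι → ℕ) (hr : ∀ i (v : V.left), rk (pr f V) c hc i v = r i) :
    tv (T f) F V t = ∑ i, r i • m i :=
  tv_split_aux hT (isPullback_pr f V).flip F V (idObj V.left) (TraceUniq1.diag V)
    (fun v => ⟨v, congrArg (fun k : V.left ⟶ V.left => k v) (diag_pr V)⟩) c hc m t h c hc
    (fun y => congrArg (fun k : ((EtCoh.bc (pr f V)).obj (idObj V.left)).left ⟶ _ => c (k y))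
      (diag_qq f V (isPullback_pr f V).flip.w)) r (fun i u => hr i u)

theorem tv_rel {X S : Scheme.{u}} (f : X ⟶ S) [IsFinite f] [Flat f] [LocallyOfFinitePresentation f]
    (F : EtCoh.Ab S) (V : S.Etale)
    (t : EtCoh.sect ((EtCoh.pull f).obj F) ((EtCoh.bc f).obj V)) (τ : EtCoh.sect F V)
    (h : Rel f F V t τ) : tv (T f) F V t = τ := by
  obtain ⟨ι, _, c, hc, m, h1, h2⟩ := h
  apply Groth.Agent.Etbase.EtSite.sect_ext
  intro v
  obtain ⟨V', k, v', hv', hr⟩ := exists_const_rk V c hc v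
  refine ⟨V', k, v', hv', ?_⟩
  rw [map_tv, tv_split hT f F V' _ (isLocallyConstant_comp k hc) _ _ (h1.comp k)
    (fun i => rk (pr f V) c hc i v) (fun i w => (rk_comp k hc i w).trans (hr i w))]
  exact (h2 V' k _ ⟨v'⟩ (fun i w => hr i w)).symm

theorem trG_eq {X S : Scheme.{u}} (f : X ⟶ S) [IsFinite f] [Flat f] [LocallyOfFinitePresentation f]
    (F : EtCoh.Ab S) : trG (EtCoh.pull f) (EtCoh.push f) (T f) F = tr f F := by
  apply hom_ext_rel f
  intro V t τ h
  rw [tr_of_rel f F V h]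
  exact tv_rel hT f F V t τ h

omit hT in
theorem nt_ext {X S : Scheme.{u}} (P : EtCoh.Ab S ⥤ EtCoh.Ab X) (Q : EtCoh.Ab X ⥤ EtCoh.Ab S)
    (T T' : P ⋙ Q ⟶ 𝟭 (EtCoh.Ab S)) (h : ∀ F, trG P Q T F = trG P Q T' F) : T = T' := by
  ext F : 2
  exact h F

theorem eq_Tr {X S : Scheme.{u}} (f : X ⟶ S) [IsFinite f] [Flat f] [LocallyOfFinitePresentation f] :
    T f = Tr f :=
  nt_ext _ _ _ _ fun F => (trG_eq hT f F).trans (trG_Tr f F).symm

end Groth.Agent.Etdl.H296.TraceUniq2
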