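import Groth.Agent.Etdl.H296.TraceTrans
import Groth.Agent.Etdl.H445.TraceGen

/-!
# (Var 3) for the trace of finite locally free morphisms, verbatim
-/

set_option autoImplicit false
universe u
set_option linter.unusedSectionVars false

open CategoryTheory CategoryTheory.Limits AlgebraicGeometry Opposite

namespace Groth.Agent.Etdl.H296.TraceVar3

open Groth.Agent.Sga4B.EtUnit Groth.Agent.Sga4B.TraceRel
open Groth.Agent.Sga4B.UnitInj Groth.Agent.Etdl.H445.TraceCalc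
open Groth.Agent.Etdl.H445.TraceVar2 Groth.Agent.Etdl.H445.TraceGen TraceSum TraceComp TraceTrans

/-- the inverse of the composition isomorphism of direct images -/
noncomputable def pshi {X Y S : Scheme.{u}} (h : X ⟶ Y) (g : Y ⟶ S) (G : EtCoh.Ab X) :
    (EtCoh.push (h ≫ g)).obj G ⟶ (EtCoh.push g).obj ((EtCoh.push h).obj G) :=
  toComp (EtCoh.push h) (EtCoh.push g) _ (EtCoh.pushComp g h).inv G

theorem pshi_apply {X Y S : Scheme.{u}} (h : X ⟶ Y) (g : Y ⟶ S) (G : EtCoh.Ab X) (V : S.Etale)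
    (s : EtCoh.sect G ((EtCoh.bc (h ≫ g)).obj V)) :
    (pshi h g G).hom.app (op V) s = G.obj.map (cmp h g V).inv.op s := by
  simp [pshi, EtCoh.pushComp, toComp, Functor.sheafPushforwardContinuousComp']
  rfl

theorem eval4 {S : Scheme.{u}} {A B C D E : EtCoh.Ab S} (a : A ⟶ B) (b : B ⟶ C) (c : C ⟶ D)
    (d : D ⟶ E) (V : S.Etaleᵒᵖ) (s : A.obj.obj V) :
    (a ≫ b ≫ c ≫ d).hom.app V s = d.hom.app V (c.hom.app V (b.hom.app V (a.hom.app V s))) := rfl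

theorem push_map_apply {X S : Scheme.{u}} (f : X ⟶ S) {A B : EtCoh.Ab X} (a : A ⟶ B) (V : S.Etale)
    (s : EtCoh.sect A ((EtCoh.bc f).obj V)) :
    ((EtCoh.push f).map a).hom.app (op V) s = a.hom.app (op ((EtCoh.bc f).obj V)) s := rfl

variable {X Y S : Scheme.{u}} (h : X ⟶ Y) (g : Y ⟶ S)
  [IsFinite h] [Flat h] [LocallyOfFinitePresentation h]
  [IsFinite g] [Flat g] [LocallyOfFinitePresentation g]
  [IsFinite (h ≫ g)] [Flat (h ≫ g)] [LocallyOfFinitePresentation (h ≫ g)]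

theorem tr_comp (F : EtCoh.Ab S) :
    tr (h ≫ g) F = (EtCoh.push (h ≫ g)).map (pc h g F) ≫
      pshi h g ((EtCoh.pull h).obj ((EtCoh.pull g).obj F)) ≫
      (EtCoh.push g).map (tr h ((EtCoh.pull g).obj F)) ≫ tr g F := by
  apply hom_ext_rel (h ≫ g)
  intro V t τ hrel
  rw [tr_of_rel (h ≫ g) F V hrel, eval4, push_map_apply, pshi_apply, push_map_apply]
  exact (tr_tr_of_rel h g hrel).symm

theorem var3_generic (Pg : EtCoh.Ab S ⥤ EtCoh.Ab Y) (Ph : EtCoh.Ab Y ⥤ EtCoh.Ab X)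
    (P : EtCoh.Ab S ⥤ EtCoh.Ab X) (Qh : EtCoh.Ab X ⥤ EtCoh.Ab Y) (Qg : EtCoh.Ab Y ⥤ EtCoh.Ab S)
    (Q : EtCoh.Ab X ⥤ EtCoh.Ab S) (α : P ≅ Pg ⋙ Ph) (ε : Qh ⋙ Qg ≅ Q)
    (T : P ⋙ Q ⟶ 𝟭 (EtCoh.Ab S)) (Th : Ph ⋙ Qh ⟶ 𝟭 (EtCoh.Ab Y)) (Tg : Pg ⋙ Qg ⟶ 𝟭 (EtCoh.Ab S))
    (F : EtCoh.Ab S)
    (h0 : trG P Q T F = Q.map (toComp Pg Ph P α.hom F) ≫
      toComp Qh Qg Q ε.inv (Ph.obj (Pg.obj F)) ≫ Qg.map (trG Ph Qh Th (Pg.obj F)) ≫
        trG Pg Qg Tg F) :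
    T.app F = Q.map (α.hom.app F) ≫ ε.inv.app (Ph.obj (Pg.obj F)) ≫
      Qg.map (Th.app (Pg.obj F)) ≫ Tg.app F := h0

/-- (Var 3) -/
theorem var3 ⦃X Y S : Scheme.{u}⦄ (h : X ⟶ Y) (g : Y ⟶ S)
    [IsFinite h] [Flat h] [LocallyOfFinitePresentation h]
    [IsFinite g] [Flat g] [LocallyOfFinitePresentation g]
    [IsFinite (h ≫ g)] [Flat (h ≫ g)] [LocallyOfFinitePresentation (h ≫ g)] (F : EtCoh.Ab S) :
    (Tr (h ≫ g)).app F =
      (EtCoh.push (h ≫ g)).map ((EtCore.pullComp h g).hom.app F) ≫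
        (EtCoh.pushComp g h).inv.app ((EtCoh.pull h).obj ((EtCoh.pull g).obj F)) ≫
        (EtCoh.push g).map ((Tr h).app ((EtCoh.pull g).obj F)) ≫ (Tr g).app F :=
  var3_generic (EtCoh.pull g) (EtCoh.pull h) (EtCoh.pull (h ≫ g)) (EtCoh.push h) (EtCoh.push g)
    (EtCoh.push (h ≫ g)) (EtCore.pullComp h g) (EtCoh.pushComp g h) (Tr (h ≫ g)) (Tr h) (Tr g) F
    (tr_comp h g F)

end Groth.Agent.Etdl.H296.TraceVar3
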